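import Cfsg.Agent.H3.AutL
import Cfsg.Agent.H8.Syl
import Cfsg.Agent.H1.SL23

/-! The embedding of `SL(4, 2)` into the alternating group of degree `8`. -/

set_option autoImplicit false
set_option linter.unusedSectionVars false

namespace Cfsg.H3.A8

open Matrix Equiv Equiv.Perm Subgroup
open scoped MatrixGroups

local notation "tr" => Matrix.SpecialLinearGroup.transvection

/-- Eight alternating matrices with nondegenerate pairwise sums. -/
def a8 : Fin 8 → Matrix (Fin 4) (Fin 4) (ZMod 2) :=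
  ![!![0, 0, 0, 0; 0, 0, 0, 0; 0, 0, 0, 0; 0, 0, 0, 0],
  !![0, 0, 0, 1; 0, 0, 1, 0; 0, 1, 0, 1; 1, 0, 1, 0],
  !![0, 0, 1, 1; 0, 0, 0, 1; 1, 0, 0, 1; 1, 1, 1, 0],
  !![0, 0, 1, 0; 0, 0, 1, 1; 1, 1, 0, 1; 0, 1, 1, 0],
  !![0, 1, 0, 0; 1, 0, 0, 0; 0, 0, 0, 1; 0, 0, 1, 0],
  !![0, 1, 1, 1; 1, 0, 1, 0; 1, 1, 0, 0; 1, 0, 0, 0],
  !![0, 1, 1, 0; 1, 0, 0, 1; 1, 0, 0, 0; 0, 1, 0, 0],
  !![0, 1, 0, 1; 1, 0, 1, 1; 0, 1, 0, 0; 1, 1, 0, 0]]

/-- The permutations induced by the elementary transvections. -/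
def pi8 : Fin 4 → Fin 4 → Perm (Fin 8) :=
  ![![1, swap 0 4 * swap 1 7 * swap 2 5 * swap 3 6, swap 0 3 * swap 1 2 * swap 4 6 * swap 5 7,
    swap 0 1 * swap 2 3 * swap 4 7 * swap 5 6],
  ![swap 0 4 * swap 1 5 * swap 2 6 * swap 3 7, 1, swap 0 1 * swap 2 3 * swap 4 5 * swap 6 7,
    swap 0 2 * swap 1 3 * swap 4 6 * swap 5 7],
  ![swap 0 6 * swap 1 3 * swap 2 4 * swap 5 7, swap 0 7 * swap 1 4 * swap 2 3 * swap 5 6, 1,
    swap 0 4 * swap 1 7 * swap 2 6 * swap 3 5],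
  ![swap 0 5 * swap 1 4 * swap 2 3 * swap 6 7, swap 0 6 * swap 1 2 * swap 3 4 * swap 5 7,
    swap 0 4 * swap 1 5 * swap 2 7 * swap 3 6, 1]]

/-- The graph of the embedding. -/
def R8 (g : SL(4, ZMod 2)) (σ : Perm (Fin 8)) : Prop :=
  ∀ i j, g.1ᵀ * (a8 (σ i) - a8 (σ j)) * g.1 = a8 i - a8 j

theorem R8.mul {g h : SL(4, ZMod 2)} {σ τ : Perm (Fin 8)} (h1 : R8 g σ) (h2 : R8 h τ) :
    R8 (g * h) (σ * τ) := fun i j => by
  rw [← h2 i j, ← h1 (τ i) (τ j)]; simp [mul_assoc]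

theorem R8_tr {i j : Fin 4} (h : i ≠ j) (c : ZMod 2) : R8 (tr h c) (pi8 i j ^ c.val) := by
  have key : ∀ (i j : Fin 4), i ≠ j → ∀ k, (1 + single i j 1)ᵀ * (a8 (pi8 i j k) - a8 (pi8 i j 0)) *
      (1 + single i j 1) = a8 k - a8 0 := by decide +kernel
  obtain rfl | rfl : c = 0 ∨ c = 1 := by revert c; decide
  · intro k l; simp
  · intro k l
    rw [← sub_sub_sub_cancel_right (a8 k) _ (a8 0), ← key i j h k, ← key i j h l, ← sub_mul,
      ← mul_sub, sub_sub_sub_cancel_right]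
    rfl

theorem R8.unique {g : SL(4, ZMod 2)} {σ τ : Perm (Fin 8)} (h1 : R8 g σ) (h2 : R8 g τ) : σ = τ := by
  have key : ∀ x y z w : Fin 8, (∀ k, (a8 x - a8 y) 0 k = (a8 z - a8 w) 0 k ∧
      (a8 x - a8 y) k 3 = (a8 z - a8 w) k 3) → (a8 x - a8 y) 1 2 = (a8 z - a8 w) 1 2 →
      x = y ∨ x = z ∨ x = w := by decide +kernel
  have h3 : ∀ i j, j ≠ i → σ i = τ i ∨ σ i = τ j := fun i j hij => by
    have := (Matrix.SpecialLinearGroup.toGL g.transpose).isUnit.mul_right_inj.1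
      ((Matrix.SpecialLinearGroup.toGL g).isUnit.mul_left_inj.1 ((h1 i j).trans (h2 i j).symm))
    exact (key _ _ _ _ (fun k => by rw [this]; exact ⟨rfl, rfl⟩) (by rw [this])).resolve_left
      fun h => hij (σ.injective h).symm
  refine Equiv.ext fun i => by_contra fun hc => ?_
  have : ∀ i : Fin 8, i + 1 ≠ i ∧ i + 2 ≠ i ∧ i + 1 ≠ i + 2 := by decide
  exact (this i).2.2 (τ.injective (((h3 i _ (this i).1).resolve_left hc).symm.trans
    ((h3 i _ (this i).2.1).resolve_left hc)))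

theorem R8.eq_one {g : SL(4, ZMod 2)} (h : R8 g 1) : g = 1 := by
  have h1 : ∀ i j k (v : Fin 4 → ZMod 2), (a8 i - a8 0 + (a8 j - a8 k)) *ᵥ v = 0 →
      (a8 i - a8 0 + (a8 j - a8 k)) *ᵥ (g • v) = 0 := fun i j k v hv => by
    rw [← h i, ← h j, ← add_mul, ← mul_add, ← mulVec_mulVec, ← mulVec_mulVec] at hv
    exact (smul_eq_zero_iff_eq g.transpose).1 hv
  let t : Fin 4 → Fin 6 → Fin 8 := ![![3, 4, 6, 1, 2, 3], ![2, 4, 6, 1, 2, 3], ![5, 6, 7, 1, 4, 7],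
    ![5, 6, 7, 1, 4, 5]]
  have key : ∀ k, (a8 (t k 0) - a8 0 + (a8 (t k 1) - a8 (t k 2))) *ᵥ Pi.single k 1 = 0 ∧
      (a8 (t k 3) - a8 0 + (a8 (t k 4) - a8 (t k 5))) *ᵥ Pi.single k 1 = 0 ∧ ∀ a b c d : ZMod 2,
      (a8 (t k 0) - a8 0 + (a8 (t k 1) - a8 (t k 2))) *ᵥ ![a, b, c, d] = 0 →
      (a8 (t k 3) - a8 0 + (a8 (t k 4) - a8 (t k 5))) *ᵥ ![a, b, c, d] = 0 →
      ![a, b, c, d] = (0 : Fin 4 → ZMod 2) ∨ ![a, b, c, d] = Pi.single k 1 := by decide +kernel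
  refine AutL.sl_ext fun k => ?_
  obtain ⟨a1, a2, a3⟩ := key k
  have h2 : ∀ v : Fin 4 → ZMod 2, ![v 0, v 1, v 2, v 3] = v := fun v => by
    ext i; fin_cases i <;> rfl
  have := a3 _ _ _ _ (by rw [h2]; exact h1 _ _ _ _ a1) (by rw [h2]; exact h1 _ _ _ _ a2)
  rw [h2, smul_eq_zero_iff_eq] at this
  simpa using this

theorem exists_R8 (g : SL(4, ZMod 2)) : ∃ σ, R8 g σ ∧ sign σ = 1 :=
  AutL.sl_induction (fun g => ∃ σ, R8 g σ ∧ sign σ = 1) (fun i j h c => ⟨_, R8_tr h c, by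
    have : ∀ i j, sign (pi8 i j) = 1 := by decide +kernel
    simp [this]⟩) (fun _ _ ⟨σ, h1, h2⟩ ⟨τ, h3, h4⟩ => ⟨_, h1.mul h3, by simp [h2, h4]⟩) g

theorem exists_hom : ∃ φ : SL(4, ZMod 2) →* Perm (Fin 8), Function.Injective φ ∧
    (∀ g, sign (φ g) = 1) ∧ ∀ {i j : Fin 4} (h : i ≠ j) c, φ (tr h c) = pi8 i j ^ c.val := by
  choose f h1 h2 using exists_R8
  refine ⟨MonoidHom.mk' f fun a b => (h1 _).unique ((h1 a).mul (h1 b)), ?_, h2,
    fun h c => (h1 _).unique (R8_tr h c)⟩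
  exact (injective_iff_map_eq_one _).2 fun g hg => R8.eq_one ((show f g = 1 from hg) ▸ h1 g)

theorem exists_alt {H α : Type*} [Group H] [Fintype α] [DecidableEq α] (ψ : H →* Perm α)
    (h1 : Function.Injective ψ) (h2 : ∀ g, sign (ψ g) = 1) (T : Finset α)
    (h3 : ∀ g i, i ∉ T → ψ g i = i) {n : ℕ} (hn : T.card = n) :
    ∃ f : H →* alternatingGroup (Fin n), Function.Injective f := by
  have h4 : ∀ g i, ψ g i ∈ T ↔ i ∈ T := fun g i => by
    by_cases h : ψ g i = i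
    · rw [h]
    · exact iff_of_true (by_contra fun hc => h ((ψ g).injective (h3 g _ hc)))
        (by_contra fun hc => h (h3 g _ hc))
  let e : T ≃ Fin n := Fintype.equivFinOfCardEq (by simpa using hn)
  let f : H →* Perm T := MonoidHom.mk' (fun g => (ψ g).subtypePerm (h4 g)) fun a b => by
    ext; simp; rfl
  refine ⟨(e.permCongrHom.toMonoidHom.comp f).codRestrict _ fun g => ?_, fun a b hab => h1 ?_⟩
  · rw [mem_alternatingGroup]
    refine (sign_permCongr e _).trans ?_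
    convert (sign_subtypePerm _ (h4 g) fun x hx => by_contra fun hc => hx (h3 g x hc)).trans (h2 g)
    rfl
  · have := e.permCongrHom.injective (congrArg Subtype.val hab)
    ext1 i
    by_cases hi : i ∈ T
    · exact congrArg Subtype.val (DFunLike.congr_fun this ⟨i, hi⟩)
    · rw [h3 a i hi, h3 b i hi]

theorem normal_or_alt {H : Type*} [Group H] [Finite H] (ψ : H →* Perm (Fin 8))
    (h1 : Function.Injective ψ) (h2 : ∀ g, sign (ψ g) = 1) {L S : Subgroup H}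
    (h3 : ∀ l ∈ L, ∀ i, 5 ≤ i → ψ l i = i) (h4 : ∀ i < 5, ∃ l ∈ L, ψ l 0 = i)
    (h5 : Nat.card L = 60) (hS : H8.IsSyl 2 S ⊤) (hn : S ≤ normalizer (L : Set H)) :
    L.Normal ∨ Nonempty (H ≃* alternatingGroup (Fin 7)) := by
  classical
  let _ := MulAction.compHom (Fin 8) ψ
  have hs : ∀ (g : H) (i : Fin 8), g • i = ψ g i := fun _ _ => rfl
  set T := (MulAction.orbit H (0 : Fin 8)).toFinset with hT
  have a1 : ∀ g i, ψ g i ∈ T ↔ i ∈ T := fun g i => by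
    simp only [hT, Set.mem_toFinset, ← hs]
    exact ⟨fun h => by simpa using MulAction.mem_orbit_of_mem_orbit g⁻¹ h,
      MulAction.mem_orbit_of_mem_orbit g⟩
  have a2 : ∀ i < 5, i ∈ T := fun i hi => by
    obtain ⟨l, -, rfl⟩ := h4 i hi
    exact (a1 _ _).2 (by simp [hT])
  have a3 : ∀ i ∈ T, (MulAction.stabilizer H i).index = T.card := fun i hi => by
    rw [MulAction.index_stabilizer, MulAction.orbit_eq_iff.2 (by simpa [hT] using hi), hT,
      Set.ncard_eq_toFinset_card']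
  set E := T.filter (5 ≤ ·) with hE
  have a4 : E.card + 5 = T.card := by
    rw [← T.card_filter_add_card_filter_not (5 ≤ ·),
      show T.filter (¬ 5 ≤ ·) = Finset.univ.filter (¬ 5 ≤ ·) by ext i; simpa using a2 i]
    rfl
  have a5 : E.card ≤ 3 := Finset.card_le_card (Finset.filter_subset_filter _ T.subset_univ)
  have a6 : 2 ∣ E.card := by
    by_contra hc
    let E' : SubMulAction S (Fin 8) := ⟨E, fun s i hi => by
      obtain ⟨b1, b2⟩ := Finset.mem_filter.1 hi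
      refine Finset.mem_filter.2 ⟨(a1 _ _).2 b1, not_lt.1 fun hc => ?_⟩
      have b3 : ∀ l ∈ L, ψ l (ψ s i) = ψ s i := fun l hl => by
        conv_rhs => rw [← h3 _ ((mem_normalizer_iff''.1 (hn s.2) l).1 hl) i b2]
        simp
      obtain ⟨l, hl, b4⟩ := h4 _ hc
      have b5 : ψ s i = 0 := (ψ l).injective ((b3 l hl).trans b4.symm)
      obtain ⟨l, hl, b4⟩ := h4 1 (by decide)
      rw [← b5, b3 l hl, b5] at b4
      exact absurd b4 (by decide)⟩
    obtain ⟨t, ht⟩ := hS.isPGroup.nonempty_fixed_point_of_prime_not_dvd_card E'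
      (by rwa [show Nat.card E' = E.card from Nat.card_eq_finsetCard E])
    have := hS.not_dvd_of_le (K := MulAction.stabilizer H t.1) fun s hs =>
      congrArg Subtype.val (ht ⟨s, hs⟩)
    rw [relIndex_top_right, a3 _ (Finset.mem_filter.1 t.2).1] at this
    omega
  obtain h | h : E.card = 0 ∨ T.card = 7 := by omega
  · have b1 : ∀ i, i ∉ T ↔ 5 ≤ i := fun i => ⟨fun h => not_lt.1 fun hc => h (a2 i hc),
      fun hi hc => Finset.notMem_empty i
        (Finset.card_eq_zero.1 h ▸ (Finset.mem_filter.2 ⟨hc, hi⟩ : i ∈ E))⟩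
    let C : Subgroup H := fixingSubgroup H {i : Fin 8 | i ∉ T}
    obtain ⟨f, hf⟩ := exists_alt (ψ.comp C.subtype) (h1.comp C.subtype_injective) (fun g => h2 g) T
      (fun g i hi => g.2 ⟨i, hi⟩) (n := 5) (by omega)
    have b2 : L = C := eq_of_le_of_card_ge (fun l hl i => h3 l hl _ ((b1 _).1 i.2)) (by
      refine (Nat.card_le_card_of_injective f hf).trans ?_
      rw [h5, nat_card_alternatingGroup]; simp [Nat.factorial])
    refine .inl (b2 ▸ ⟨fun c hc g i => ?_⟩)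
    have : c • g⁻¹ • i.1 = g⁻¹ • i.1 := hc ⟨ψ g⁻¹ i, (a1 _ _).not.2 i.2⟩
    exact (show (g * c * g⁻¹) • i.1 = i.1 by rw [mul_smul, mul_smul, this, smul_inv_smul])
  · obtain ⟨t, ht⟩ := Finset.card_eq_one.1 (show Tᶜ.card = 1 by simp [Finset.card_compl, h])
    obtain ⟨f, hf⟩ := exists_alt ψ h1 h2 T (fun g i hi => by
      have b1 : ∀ i, i ∉ T → i = t := fun i hi => by simpa [ht] using Finset.mem_compl.2 hi
      rw [b1 _ ((a1 g i).not.2 hi), b1 i hi]) h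
    refine .inr ⟨MulEquiv.ofBijective f ⟨hf, MonoidHom.range_eq_top.1 ?_⟩⟩
    have := alternatingGroup.isSimpleGroup (α := Fin 7) (by simp)
    refine (f.range.normalCore_normal.eq_bot_or_eq_top.elim (fun hc => ?_)
      fun hc => top_le_iff.1 (hc.ge.trans f.range.normalCore_le))
    have b1 := H1.index_normalCore_dvd_factorial f.range
    have b2 := f.range.card_mul_index
    have b3 : 7 ∣ Nat.card H := h ▸ a3 0 (a2 0 (by decide)) ▸ index_dvd_card _
    have b4 : 60 ∣ Nat.card H := h5 ▸ L.card_subgroup_dvd_card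
    have b5 : Nat.card (alternatingGroup (Fin 7)) = 2520 := by
      rw [nat_card_alternatingGroup]; simp [Nat.factorial]
    rw [hc, index_bot, b5] at b1
    rw [b5, ← Nat.card_congr (MonoidHom.ofInjective hf).toEquiv] at b2
    obtain ⟨k, hk⟩ := Nat.Coprime.mul_dvd_of_dvd_of_dvd (by norm_num) b3 b4
    have b6 : f.range.index ≤ 6 := by
      rw [hk] at b2
      exact Nat.le_of_dvd (by norm_num) ⟨k, by nlinarith⟩
    exact absurd (b1.trans (Nat.factorial_dvd_factorial b6)) (by decide)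

end Cfsg.H3.A8
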