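import Cfsg.Agent.H3.ReeChk

/-! The Ree groups `²G₂(q)` have no elements of order four. -/

set_option autoImplicit false
set_option linter.unusedSectionVars false

namespace Cfsg.H3.PM

open Matrix Cfsg.Lie Module
open scoped Kronecker

variable {K : Type*} [Field K] [CharP K 3]

theorem mem_lI : ∀ i, i ∈ lI := by rintro (i | i) <;> simp [lI]
theorem mem_l7 : ∀ i, i ∈ l7 := by decide
theorem mem_lT : ∀ i, i ∈ lT := by decide +kernel
theorem sum_lI (f : I → K) : (lI.map f).sum = ∑ k, f k := sum_of_nodup (by decide) mem_lI f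
theorem sum_l7 (f : Fin 7 → K) : (l7.map f).sum = ∑ k, f k := sum_of_nodup (by decide) mem_l7 f
theorem sum_lT (f : T7 → K) : (lT.map f).sum = ∑ k, f k :=
  sum_of_nodup (by decide +kernel) mem_lT f
theorem tab7 (A : Fin 7 → Fin 7 → P) : tab l7 l7 Fin.val Fin.val A = A :=
  tab_eq (by decide) (by decide) A
theorem tabI (A : I → I → P) : tab lI lI pI pI A = A := tab_eq (by decide) (by decide) A

/-- The splitting of the index set. -/
noncomputable def eI : Fin 7 ⊕ Fin 7 ≃ I := Equiv.ofBijective (Sum.elim iS iL) (by decide)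

variable (K) in
/-- A constant context. -/
def x0 : Lean.RArray K := .leaf 0

theorem dn_one {l : Type} [DecidableEq l] (x : Lean.RArray K) :
    dn x (fun i j : l => if i = j then .num 1 else .num 0) = 1 := by
  ext i j
  simp only [dn, of_apply, one_apply]
  split_ifs <;> simp [ev_num]

theorem dn_kr (x : Lean.RArray K) (A : Fin 7 → Fin 7 → P) : dn x (kr A) = dn x A ⊗ₖ dn x A := by
  ext a b
  exact ev_mul x _ _

theorem dn_sb (x : Lean.RArray K) (f g : Fin 7 → I) (M : I → I → P) :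
    dn x (sb f g M) = (dn x M).submatrix f g := by
  rw [sb, tab7]; rfl

/-- The properties of elements of `G₂(K)` that are used. -/
structure Good (M : Matrix I I K) (A B : Matrix (Fin 7) (Fin 7) K) : Prop where
  tri : ∃ C, M.submatrix eI eI = fromBlocks A C 0 B
  hJ : (A ⊗ₖ A) * dn (x0 K) pJ = dn (x0 K) pJ * M
  hR : dn (x0 K) pR' * (A ⊗ₖ A) = A * dn (x0 K) pR'

theorem Good.one : Good (1 : Matrix I I K) 1 1 := ⟨⟨0, by simp⟩, by simp, by simp⟩

variable {M M' : Matrix I I K} {A B A' B' : Matrix (Fin 7) (Fin 7) K}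

theorem Good.mul (h : Good M A B) (h' : Good M' A' B') : Good (M * M') (A * A') (B * B') := by
  obtain ⟨C, hC⟩ := h.tri
  obtain ⟨C', hC'⟩ := h'.tri
  refine ⟨⟨A * C' + C * B', ?_⟩, ?_, ?_⟩
  · rw [← submatrix_mul_equiv _ _ _ eI, hC, hC', fromBlocks_multiply]; simp
  · rw [mul_kronecker_mul, Matrix.mul_assoc, h'.hJ, ← Matrix.mul_assoc, h.hJ, Matrix.mul_assoc]
  · rw [mul_kronecker_mul, ← Matrix.mul_assoc, h.hR, Matrix.mul_assoc, h'.hR, Matrix.mul_assoc]

/-- Root elements. -/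
def xm (r : Fin 12) (t : K) : Matrix I I K := chevG2.xMat K r t

theorem good_root (r : Fin 12) (t : K) : Good (xm r t)
    ((xm r t).submatrix iS iS) ((xm r t).submatrix iL iL) := by
  have h := chk_all r
  have e : dn (.leaf t) (xr r (.ofVar 0)) = xm r t :=
    (dn_xP _ chevG2 r _).trans (by rw [ev_var]; rfl)
  simp only [chk, tabI, Bool.and_eq_true] at h
  have h1 := dn_eq (.leaf t) mem_l7 mem_l7 h.1.1
  have h2 := congrArg transpose (dn_eq (.leaf t) mem_lI mem_lT h.1.2)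
  have h3 := dn_eq (.leaf t) mem_l7 mem_lT h.2
  rw [dn_sb, e] at h1
  rw [dn_mul _ sum_lT, transpose_mul] at h2
  rw [dn_mul _ sum_lT, dn_mul _ sum_l7, dn_kr, dn_sb, e] at h3
  refine ⟨⟨(xm r t).submatrix iS iL, ?_⟩, ?_, h3⟩
  · ext (i | i) (j | j)
    exacts [rfl, rfl, (congrFun₂ h1 i j).trans Int.cast_zero, rfl]
  · have h4 := dn_mul (.leaf t) sum_lI pJ (xr r (.ofVar 0))
    have h5 := dn_kr (.leaf t) (sb iS iS (xr r (.ofVar 0)))
    rw [dn_sb, e] at h5
    rw [e] at h4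
    rw [← h5]
    exact h2.trans h4

/-- The matrix of a word on a set of indices. -/
def wm (f : Fin 7 → I) (w : List (Fin 12 × K)) : Matrix (Fin 7) (Fin 7) K :=
  (w.map fun a => (xm a.1 a.2).submatrix f f).prod

theorem good_word (w : List (Fin 12 × K)) :
    Good (chevG2.wordMat K (w.map fun a => (a.1.val, a.2))) (wm iS w) (wm iL w) := by
  induction w with
  | nil => exact Good.one
  | cons a w ih =>
    have e : chevG2.x K a.1 a.2 = xm a.1 a.2 := dif_pos (t := fun h => chevG2.xMat K ⟨a.1, h⟩ a.2) a.1.2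
    have := (good_root a.1 a.2).mul ih
    nth_rw 1 [← e] at this
    exact this

theorem dn_wd (x : Lean.RArray K) (f : Fin 7 → I) (w : List (Fin 12 × P)) :
    dn x (wd f w) = wm f (w.map fun a => (a.1, ev x a.2)) := by
  induction w with
  | nil => exact dn_one x
  | cons a w ih =>
    rw [show wd f (a :: w) = tab l7 l7 Fin.val Fin.val (mul 3 l7 (sb f f (xr a.1 a.2)) (wd f w))
      from rfl, tab7, dn_mul _ sum_l7, ih, dn_sb, show dn x (xr a.1 a.2) = _ from dn_xP x chevG2 _ _]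
    rfl

theorem wm_map (φ : K →+* K) (f : Fin 7 → I) (w : List (Fin 12 × K)) :
    (wm f w).map φ = wm f (w.map fun a => (a.1, φ a.2)) := by
  induction w with
  | nil => simp [wm]
  | cons a w ih =>
    simp only [wm, List.map_cons, List.prod_cons] at ih ⊢
    rw [Matrix.map_mul, ih, show xm a.1 (φ a.2) = _ from (xMat_map φ chevG2 _ _).symm]
    rfl

theorem good_of_mem [Fintype K] {m : ℕ} (hK : Fintype.card K = 3 ^ (2 * m + 1))
    {g : GL chevG2.Idx K} (hg : g ∈ twistedG2 K (3 ^ m)) :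
    ∃ A, Good g.1 A (A.map (iterateFrobenius K 3 (m + 1))) := by
  rw [twistedG2, ChevalleyDatum.genSubgroup, ← Subgroup.mem_toSubmonoid,
    Subgroup.closure_toSubmonoid_of_finite] at hg
  induction hg using Submonoid.closure_induction with
  | one => exact ⟨1, by rw [Matrix.map_one _ (map_zero _) (map_one _)]; exact Good.one⟩
  | mul a b _ _ ha hb =>
    obtain ⟨A, hA⟩ := ha
    obtain ⟨B, hB⟩ := hb
    exact ⟨A * B, by rw [Matrix.map_mul]; exact hA.mul hB⟩
  | mem g hg =>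
    obtain ⟨_, ⟨t, u, v, hw⟩, hg⟩ := hg
    let x : Lean.RArray K := .branch 3 (.branch 1 (.leaf t) (.branch 2 (.leaf u) (.leaf v)))
      (.branch 4 (.leaf (t ^ 3 ^ m)) (.branch 5 (.leaf (u ^ 3 ^ m)) (.leaf (v ^ 3 ^ m))))
    have h1 : ∀ a : K, iterateFrobenius K 3 (m + 1) a = (a ^ 3 ^ m) ^ 3 := fun a => by
      rw [iterateFrobenius_def, pow_succ, pow_mul]
    have h2 : ∀ a : K, iterateFrobenius K 3 (m + 1) (a ^ 3 ^ m) = a := fun a => by
      rw [iterateFrobenius_def, ← pow_mul, ← pow_add, show m + (m + 1) = 2 * m + 1 by ring, ← hK,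
        FiniteField.pow_card]
    have h3 : x.get 0 = t ∧ x.get 1 = u ∧ x.get 2 = v ∧ x.get 3 = t ^ 3 ^ m ∧ x.get 4 = u ^ 3 ^ m ∧
      x.get 5 = v ^ 3 ^ m := ⟨rfl, rfl, rfl, rfl, rfl, rfl⟩
    have h4 : ∀ w w' : List (Fin 12 × P), eqv 3 l7 l7 (wd iL w) (wd iS w') = true →
        (w'.map fun a => (a.1, ev x a.2)) = (w.map fun a => (a.1, ev x a.2)).map
          (fun a => (a.1, iterateFrobenius K 3 (m + 1) a.2)) →
        g.1 = chevG2.wordMat K ((w.map fun a => (a.1, ev x a.2)).map fun a => (a.1.val, a.2)) →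
        ∃ A, Good g.1 A (A.map (iterateFrobenius K 3 (m + 1))) := fun w w' e1 e2 e3 => by
      have := dn_eq x mem_l7 mem_l7 e1
      rw [dn_wd, dn_wd, e2, ← wm_map] at this
      exact ⟨_, e3 ▸ this ▸ good_word _⟩
    rcases hw with rfl | rfl
    · refine h4 _ _ chk_w.1 ?_ (hg.trans (congrArg _ ?_))
      · simp [w1, w2, wU, ev_add, ev_mul, ev_pow, ev_var, h3, h2, ← h1]
      · simp [w1, wU, ev_add, ev_mul, ev_pow, ev_var, h3, reeWordU, pow_succ, pow_mul',
          g2a, g2b, g2ab, g2aab, g2aaab, g2aaabb]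
    · refine h4 _ _ chk_w.2 ?_ (hg.trans (congrArg _ ?_))
      · simp [wN, w1, w2, wU, ev_add, ev_mul, ev_pow, ev_smul, ev_var, h3, h2, ← h1]
      · simp [wN, w1, wU, ev_add, ev_mul, ev_pow, ev_smul, ev_var, h3, reeWordU,
          pow_succ, pow_mul', g2a, g2b, g2ab, g2aab, g2aaab, g2aaabb, reeWordV,
          ChevalleyDatum.negWord, chevG2, chevG2NegIdx]

theorem Good.pow (h : Good M A B) (n : ℕ) : Good (M ^ n) (A ^ n) (B ^ n) := by
  induction n with
  | zero => simpa using Good.one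
  | succ n ih => simpa only [pow_succ] using ih.mul h

theorem Good.eq_one (h : Good 1 A B) : A = 1 := by
  obtain ⟨C, hC⟩ := h.tri
  rw [submatrix_one_equiv, ← fromBlocks_one] at hC
  exact (fromBlocks_inj.1 hC).1.symm

theorem Good.trace_eq (h : Good M A B) : (A * A).trace = A.trace ^ 2 + 2 * A.trace + B.trace := by
  obtain ⟨C, hC⟩ := h.tri
  have h1 : M.trace = A.trace + B.trace := by
    rw [trace, ← eI.sum_comp]
    exact (Finset.sum_congr rfl fun i _ => congrFun₂ hC i i).trans (by simp [trace])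
  have c1 := dn_eq (x0 K) mem_lI mem_lI chk_c.1
  have c2 := dn_eq (x0 K) mem_l7 mem_l7 chk_c.2.1
  have c3 := dn_eq (x0 K) mem_lT mem_lT chk_c.2.2
  rw [dn_mul _ sum_lT, dn_one] at c1 c2
  have c4 : dn (x0 K) pJ * dn (x0 K) pR + dn (x0 K) pJ' * dn (x0 K) pR' + 1 =
      of fun a b : T7 => if a = b.swap then (1 : K) else 0 := by
    rw [← dn_mul _ sum_lI, ← dn_mul _ sum_l7, ← dn_one (x0 K)]
    ext a b
    have := congrFun₂ c3 a b
    simp only [dn, of_apply, ev_add] at this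
    simp only [dn, of_apply, Matrix.add_apply, this]
    split_ifs <;> simp [ev_num]
  have c5 := congrArg (fun X => (A ⊗ₖ A * X).trace) c4
  simp only [mul_add, trace_add, mul_one, trace_kronecker, ← Matrix.mul_assoc, h.hJ] at c5
  rw [Matrix.mul_assoc, trace_mul_comm, Matrix.mul_assoc, c1, mul_one, trace_mul_comm,
    ← Matrix.mul_assoc, h.hR, Matrix.mul_assoc, c2, mul_one, h1] at c5
  refine Eq.trans ?_ (c5.symm.trans (by ring))
  simp [trace, mul_apply, Fintype.sum_prod_type, Prod.ext_iff, ite_and]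

theorem trace_idem {n : Type*} [Fintype n] [DecidableEq n] {E : Matrix n n K} (h : E * E = E) :
    E.trace = finrank K (LinearMap.range E.toLin') := by
  rw [← trace_toLin'_eq]
  exact (LinearMap.IsIdempotentElem.isProj_range _ (by
    rw [IsIdempotentElem, Module.End.mul_eq_comp, ← toLin'_mul, h])).trace

theorem add_three {n : Type*} (A : Matrix n n K) : A + A + A = 0 := by
  ext i j
  simp only [Matrix.add_apply, Matrix.zero_apply]
  linear_combination A i j * CharP.cast_eq_zero K 3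

theorem trace_cast {n : Type*} [Fintype n] [DecidableEq n] {A : Matrix n n K} (h : A ^ 4 = 1)
    (h1 : (A ^ 3).trace = A.trace) : ∃ k : ℤ, A.trace = k := by
  have e1 := trace_idem (E := 1 + A + A ^ 2 + A ^ 3) (by
    linear_combination (norm := noncomm_ring) (A ^ 2 + A + A + 1 + 1 + 1) * h +
      add_three (1 + A + A ^ 2 + A ^ 3))
  have e2 := trace_idem (E := 1 - A + A ^ 2 - A ^ 3) (by
    linear_combination (norm := noncomm_ring) (A ^ 2 - A - A + 1 + 1 + 1) * h +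
      add_three (1 - A + A ^ 2 - A ^ 3))
  simp only [trace_add, trace_sub, h1] at e1 e2
  obtain ⟨a, e1⟩ : ∃ a : ℕ, _ = (a : K) := ⟨_, e1⟩
  obtain ⟨b, e2⟩ : ∃ a : ℕ, _ = (a : K) := ⟨_, e2⟩
  refine ⟨a - b, ?_⟩
  rw [Int.cast_sub, Int.cast_natCast, Int.cast_natCast, ← e1, ← e2]
  linear_combination (-A.trace) * CharP.cast_eq_zero K 3

/-- Structure constants. -/
def tb : Fin 7 → Fin 7 → Fin 7 → ℤ :=
  ![![![0,0,0,1,0,0,0], ![0,0,1,0,0,0,0], ![0,2,0,0,0,0,0], ![2,0,0,0,0,0,0], ![0,0,0,0,0,0,0], ![0,0,0,0,0,0,0], ![0,0,0,0,0,0,0]],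
    ![![0,0,0,0,1,0,0], ![0,0,0,2,0,0,0], ![0,0,0,0,0,0,0], ![0,1,0,0,0,0,0], ![2,0,0,0,0,0,0], ![0,0,0,0,0,0,0], ![0,0,0,0,0,0,0]],
    ![![0,0,0,0,0,2,0], ![0,0,0,0,0,0,0], ![0,0,0,2,0,0,0], ![0,0,1,0,0,0,0], ![0,0,0,0,0,0,0], ![1,0,0,0,0,0,0], ![0,0,0,0,0,0,0]],
    ![![0,0,0,0,0,0,1], ![0,0,0,0,0,2,0], ![0,0,0,0,2,0,0], ![0,0,0,0,0,0,0], ![0,0,1,0,0,0,0], ![0,1,0,0,0,0,0], ![2,0,0,0,0,0,0]],
    ![![0,0,0,0,0,0,0], ![0,0,0,0,0,0,2], ![0,0,0,0,0,0,0], ![0,0,0,0,2,0,0], ![0,0,0,1,0,0,0], ![0,0,0,0,0,0,0], ![0,1,0,0,0,0,0]],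
    ![![0,0,0,0,0,0,0], ![0,0,0,0,0,0,0], ![0,0,0,0,0,0,1], ![0,0,0,0,0,2,0], ![0,0,0,0,0,0,0], ![0,0,0,1,0,0,0], ![0,0,2,0,0,0,0]],
    ![![0,0,0,0,0,0,0], ![0,0,0,0,0,0,0], ![0,0,0,0,0,0,0], ![0,0,0,0,0,0,1], ![0,0,0,0,0,1,0], ![0,0,0,0,2,0,0], ![0,0,0,2,0,0,0]]]

theorem pR'_eq (i j k : Fin 7) : pR' i (j, k) = .num (tb i j k) :=
  eq_of_beq (by revert i j k; decide +kernel)

/-- The bracket in coordinates. -/
def br (x y : Fin 7 → K) : Fin 7 → K :=
  ![x 0 * y 3 + x 1 * y 2 + 2 * (x 2 * y 1) + 2 * (x 3 * y 0),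
    x 0 * y 4 + 2 * (x 1 * y 3) + x 3 * y 1 + 2 * (x 4 * y 0),
    2 * (x 0 * y 5) + 2 * (x 2 * y 3) + x 3 * y 2 + x 5 * y 0,
    x 0 * y 6 + 2 * (x 1 * y 5) + 2 * (x 2 * y 4) + x 4 * y 2 + x 5 * y 1 + 2 * (x 6 * y 0),
    2 * (x 1 * y 6) + 2 * (x 3 * y 4) + x 4 * y 3 + x 6 * y 1,
    x 2 * y 6 + 2 * (x 3 * y 5) + x 5 * y 3 + 2 * (x 6 * y 2),
    x 3 * y 6 + x 4 * y 5 + 2 * (x 5 * y 4) + 2 * (x 6 * y 3)]

theorem br_eq (x y : Fin 7 → K) : dn (x0 K) pR' *ᵥ (fun p => x p.1 * y p.2) = br x y := by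
  ext i
  fin_cases i <;>
    simp [mulVec, dotProduct, Fintype.sum_prod_type, Fin.sum_univ_seven, dn, pR'_eq, ev_num, tb,
      br, add_assoc]

theorem Good.br_mulVec (h : Good M A B) (x y : Fin 7 → K) : br (A *ᵥ x) (A *ᵥ y) = A *ᵥ br x y := by
  rw [← br_eq, ← br_eq, mulVec_mulVec, ← h.hR, ← mulVec_mulVec]
  congr 1
  ext p
  simp [mulVec, dotProduct, Fintype.sum_prod_type, Finset.sum_mul_sum, mul_mul_mul_comm]

theorem Good.not_refl (h : Good M A B) (h1 : A.trace = 1) (v f : Fin 7 → K)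
    (h2 : ∀ i j, A i j = -(1 : Matrix _ _ K) i j - v i * f j) : False := by
  have c3 : (3 : K) = 0 := CharP.cast_eq_zero K 3
  have h3 : ∀ x, A *ᵥ x = -x - (f ⬝ᵥ x) • v := fun x => by
    ext i
    simp [mulVec, dotProduct, h2, mul_sub, one_apply, Finset.mul_sum, mul_comm, mul_left_comm]
  let u : Fin 7 → Fin 7 → Fin 7 → K := fun i j => Pi.single i (f j) - Pi.single j (f i)
  have h4 : ∀ i j k, ∃ c : K, br (u i j) (u i k) = c • v := fun i j k => by
    have := h.br_mulVec (u i j) (u i k)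
    simp only [h3, u, dotProduct_sub, dotProduct_single, mul_comm (f i), sub_self, zero_smul,
      sub_zero] at this
    refine ⟨f ⬝ᵥ br (u i j) (u i k), funext fun l => ?_⟩
    have h5 : ∀ x y : Fin 7 → K, br (-x) (-y) = br x y := fun x y => by simp [br]
    have := congrFun (h5 _ _ ▸ this) l
    simp only [Pi.sub_apply, Pi.neg_apply] at this
    linear_combination -this + br (u i j) (u i k) l * c3
  have h5 : ∀ i j k j' k' a b, br (u i j) (u i k) a * br (u i j') (u i k') b =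
      br (u i j) (u i k) b * br (u i j') (u i k') a := fun i j k j' k' a b => by
    obtain ⟨c, hc⟩ := h4 i j k
    obtain ⟨d, hd⟩ := h4 i j' k'
    simp only [hc, hd, Pi.smul_apply, smul_eq_mul]
    ring
  have c2 : (2 : K) ≠ 0 := by grind
  have f0 := h5 0 4 2 4 5 3 6
  have f1 := h5 1 6 0 6 2 3 5
  have f2 := h5 2 1 5 1 6 3 4
  have f3 := h5 3 4 5 5 0 6 2
  have f4 := h5 4 5 1 5 0 3 2
  have f5 := h5 5 0 6 0 4 3 1
  have f6 := h5 6 2 4 2 1 3 0
  simp [br, u, c2] at f0 f1 f2 f3 f4 f5 f6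
  simp [trace, h2, Fin.sum_univ_seven, f0, f1, f2, f3, f4, f5, f6] at h1
  grind

theorem sq_eq_one [Fintype K] {m : ℕ} (hK : Fintype.card K = 3 ^ (2 * m + 1))
    {g : GL chevG2.Idx K} (hg : g ∈ twistedG2 K (3 ^ m)) (h4 : g ^ 4 = 1) : g ^ 2 = 1 := by
  have c3 : (3 : K) = 0 := CharP.cast_eq_zero K 3
  have hq : Fintype.card K % 4 = 3 := by
    rw [hK, pow_succ, pow_mul, Nat.mul_mod, Nat.pow_mod]; norm_num
  have key : ∀ {M : Matrix I I K} {A}, Good M A (A.map (iterateFrobenius K 3 (m + 1))) → A ^ 4 = 1 →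
      (A * A).trace = A.trace ^ 2 ∧ A.trace ^ 3 = A.trace := fun {M A} h h1 => by
    obtain ⟨k, hk⟩ := trace_cast h1 (by
      rw [← FiniteField.pow_card A.trace, ← FiniteField.trace_pow_card, pow_eq_pow_mod (Fintype.card K) h1, hq])
    refine ⟨?_, hk ▸ map_intCast (frobenius K 3) k⟩
    rw [h.trace_eq, ← AddMonoidHom.map_trace, hk, map_intCast]
    linear_combination k * c3
  obtain ⟨A, hA⟩ := good_of_mem hK hg
  suffices ∀ M : Matrix I I K, Good M A (A.map (iterateFrobenius K 3 (m + 1))) → M ^ 4 = 1 →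
    M ^ 2 = 1 from Units.ext (this g.1 hA (congrArg Units.val h4))
  clear hA h4 hg g
  intro g hA h4
  have h1 : A ^ 4 = 1 := (h4 ▸ hA.pow 4 :).eq_one
  have hS := hA.mul hA
  rw [← Matrix.map_mul] at hS
  have h2 : A * A * (A * A) = 1 := by rw [← h1]; noncomm_ring
  have h3 := (key hS (by rw [← sq, ← pow_mul, mul_comm, pow_mul, h1, one_pow])).1
  have h5 := key hA h1
  have h6 : (A * A).trace = 1 := by
    rw [h2, trace_one, h5.1] at h3
    simp at h3
    grind
  have e1 : (A * A - 1) * (A * A - 1) = A * A - 1 := by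
    linear_combination (norm := noncomm_ring) h2 + add_three (1 - A * A)
  have h7 := trace_idem e1
  have h8 := Submodule.finrank_le (LinearMap.range (A * A - 1).toLin')
  rw [trace_sub, h6, trace_one, eq_comm, show (1 : K) - Fintype.card (Fin 7) = 0 by simp; grind,
    CharP.cast_eq_zero_iff K 3] at h7
  rw [finrank_fin_fun] at h8
  obtain h | h | h : finrank K (LinearMap.range (A * A - 1).toLin') = 0 ∨
    finrank K (LinearMap.range (A * A - 1).toLin') = 3 ∨
    finrank K (LinearMap.range (A * A - 1).toLin') = 6 := by omega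
  · rw [Submodule.finrank_eq_zero, LinearMap.range_eq_bot, map_eq_zero_iff _ toLin'.injective,
      sub_eq_zero] at h
    obtain ⟨C, hC⟩ := hS.tri
    rw [h, Matrix.map_one _ (map_zero _) (map_one _)] at hC
    have h9 := congrArg₂ (· * ·) hC hC
    have h10 : g * g * (g * g) = 1 := by rw [← h4]; noncomm_ring
    simp only [fromBlocks_multiply, Matrix.mul_one, Matrix.one_mul] at h9
    rw [submatrix_mul_equiv, h10, submatrix_one_equiv, ← fromBlocks_one] at h9
    rw [show C = 0 by linear_combination (norm := abel) add_three C + (fromBlocks_inj.1 h9).2.1,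
      fromBlocks_one, ← submatrix_one_equiv eI] at hC
    exact (sq g).trans ((reindex eI.symm eI.symm).injective hC)
  · have h9 : ∀ x ∈ LinearMap.range (A * A - 1).toLin', A.toLin' x ∈
        LinearMap.range (A * A - 1).toLin' := by
      rintro _ ⟨y, rfl⟩
      exact ⟨A *ᵥ y, by simp [mulVec_sub]⟩
    have h10 : A.toLin'.restrict h9 * A.toLin'.restrict h9 = (-1 : K) • 1 := by
      ext ⟨_, y, rfl⟩ : 2
      simp [mulVec_sub, show A * (A * (A * A)) = 1 from mul_assoc A A _ ▸ h2]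
    have h11 := congrArg LinearMap.det h10
    rw [map_mul, LinearMap.det_smul, h, map_one] at h11
    exact (FiniteField.isSquare_neg_one_iff.1 ⟨_, by rw [h11]; ring⟩ hq).elim
  · have h9 := LinearMap.finrank_range_add_finrank_ker (A * A - 1).toLin'
    rw [h, finrank_fin_fun] at h9
    obtain ⟨v, -, hv⟩ := finrank_eq_one_iff'.1
      (show finrank K (LinearMap.ker (A * A - 1).toLin') = 1 by omega)
    have h10 : (A * A - 1) * (-1 - A * A) = 0 := by linear_combination (norm := noncomm_ring) -h2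
    choose f hf using fun j => hv ⟨(-1 - A * A) *ᵥ Pi.single j 1, by
      rw [LinearMap.mem_ker, toLin'_apply, mulVec_mulVec, h10, zero_mulVec]⟩
    refine (hS.not_refl h6 v f fun i j => ?_).elim
    have := congrFun (congrArg Subtype.val (hf j)) i
    simp at this
    linear_combination this

end Cfsg.H3.PM
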