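import Cfsg.Agent.H3.PMat

/-! Kernel checks of polynomial identities for `G₂` in characteristic three. -/

set_option autoImplicit false
set_option linter.unusedSectionVars false

namespace Cfsg.H3.PM

open Matrix Cfsg.Lie
open scoped Kronecker

theorem sum_of_nodup {m K : Type*} [Fintype m] [DecidableEq m] [AddCommMonoid K] {s : List m}
    (h1 : s.Nodup) (h2 : ∀ i, i ∈ s) (f : m → K) : (s.map f).sum = ∑ k, f k := by
  rw [← List.sum_toFinset f h1, Finset.eq_univ_iff_forall.2 fun i => List.mem_toFinset.2 (h2 i)]

/-- Index type of the adjoint module. -/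
abbrev I : Type := Fin 2 ⊕ Fin 12
/-- Index type of the tensor square. -/
abbrev T7 : Type := Fin 7 × Fin 7

/-- The ideal of short roots. -/
def iS : Fin 7 → I := ![.inr 2, .inr 3, .inr 4, .inl 0, .inr 7, .inr 8, .inr 9]
/-- The quotient by it. -/
def iL : Fin 7 → I := ![.inr 0, .inr 1, .inr 5, .inl 1, .inr 6, .inr 10, .inr 11]

/-- Enumerations. -/
def lI : List I := (List.finRange 2).map .inl ++ (List.finRange 12).map .inr
/-- Enumerations. -/
def l7 : List (Fin 7) := List.finRange 7
/-- Enumerations. -/
def lT : List T7 := l7 ×ˢ l7
/-- Positions. -/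
def pI : I → ℕ := Sum.elim Fin.val fun k => k + 2
/-- Positions. -/
def pT (a : T7) : ℕ := a.1 * 7 + a.2

/-- Constant matrices given by base four digits. -/
def cst {l m : Type} (N n : ℕ) (f : l → ℕ) (g : m → ℕ) : l → m → P := fun i j =>
  .num (Int.ofNat ((N >>> (2 * (f i * n + g j))) % 4))

/-- The embedding of the Lie algebra in the tensor square. -/
def pJ : T7 → I → P := cst 191992461710303264760093476106003791034814256403974082935047241431725808006194274269028580776454968581675841681031010541733677666204544683081855844868112348691102205744800174217858878926769391276184732669117996773297633116367700218684067981297376793818792889078911515423610426056650145302266041045081820426840530285597816368207597762854598079272229708675827155396742402121336415483616474390602452888977408 14 pT pI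
/-- A left inverse. -/
def pR : I → T7 → P := cst 6445343599460942207333799790484515519409580879372858090616218226829229315821616266985285352184892600751374932786809655273014526573373349588156300474856933911028317782674345300064682185262755490901232299033124935325110347778967334330082006612813444945862289842405125497149618287357622244558009234282690655062350042286869604853974947314981444790797000410918595806838013790660974453368070946202862913482980516167680 49 pI pT
/-- A right inverse of the bracket. -/
def pJ' : T7 → Fin 7 → P := cst 18250040948263031513002361534171190341456967720670677542289043458945276151276399864656417064714180888860858881522824841244092692918799167438221299092342255327446758261029794566418179585929641984 7 pT Fin.val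
/-- The bracket. -/
def pR' : Fin 7 → T7 → P := cst 2508840690239668337114453129911313841427731005439643924257436383915046639212646881746735602453162517990837030561049092693654938713422978535551805134878948674298617830628703036278699418694413294608289366080 49 Fin.val pT

/-- Root elements. -/
def xr (r : Fin 12) (t : P) : I → I → P := xP 3 chevG2 r t
/-- Tensor square. -/
def kr (A : Fin 7 → Fin 7 → P) : T7 → T7 → P := fun a b => (A a.1 b.1).mulC (A a.2 b.2) 3
/-- Restriction to a submatrix. -/
def sb (f g : Fin 7 → I) (M : I → I → P) : Fin 7 → Fin 7 → P :=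
  tab l7 l7 Fin.val Fin.val fun i j => M (f i) (g j)
/-- Transposition. -/
def tp {l m : Type} (A : l → m → P) : m → l → P := fun i j => A j i

/-- The checks for a root element. -/
def chk (r : Fin 12) : Bool :=
  let M := tab lI lI pI pI (xr r (.ofVar 0))
  let A := sb iS iS M
  eqv 3 l7 l7 (sb iL iS M) (fun _ _ => .num 0) &&
  eqv 3 lI lT (mul 3 lT (tp pJ) (tp (kr A))) (tp (mul 3 lI pJ M)) &&
  eqv 3 l7 lT (mul 3 lT pR' (kr A)) (mul 3 l7 A pR')

theorem chk_all : ∀ r, chk r = true := by decide +kernel

/-- Product of a word on a submatrix. -/
def wd (f : Fin 7 → I) : List (Fin 12 × P) → Fin 7 → Fin 7 → P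
  | [] => fun i j => if i = j then .num 1 else .num 0
  | a :: w => tab l7 l7 Fin.val Fin.val (mul 3 l7 (sb f f (xr a.1 a.2)) (wd f w))

/-- The positive word in the variables `t, u, v, T, U, V`. -/
def wU (t u v T U V : P) : List (Fin 12 × P) :=
  [(7, T), (6, t), (8, (T.mulC t 3).combineC U 3), (9, ((T.powC 2 3).mulC t 3).combineC V 3),
    (10, u), (11, v)]
/-- The negative word. -/
def wN (w : List (Fin 12 × P)) : List (Fin 12 × P) := w.map fun a => (a.1.rev, a.2.mulConstC (-1) 3)
/-- The word. -/
def w1 : List (Fin 12 × P) := wU (.ofVar 0) (.ofVar 1) (.ofVar 2) (.ofVar 3) (.ofVar 4) (.ofVar 5)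
/-- The twisted word. -/
def w2 : List (Fin 12 × P) := wU (.powC (.ofVar 3) 3 3) (.powC (.ofVar 4) 3 3) (.powC (.ofVar 5) 3 3)
  (.ofVar 0) (.ofVar 1) (.ofVar 2)

theorem chk_w : eqv 3 l7 l7 (wd iL w1) (wd iS w2) = true ∧
    eqv 3 l7 l7 (wd iL (wN w1)) (wd iS (wN w2)) = true := by decide +kernel

theorem chk_c : eqv 3 lI lI (mul 3 lT pR pJ) (fun i j => if i = j then .num 1 else .num 0) = true ∧
    eqv 3 l7 l7 (mul 3 lT pR' pJ') (fun i j => if i = j then .num 1 else .num 0) = true ∧
    eqv 3 lT lT (fun a b => ((mul 3 lI pJ pR a b).combineC (mul 3 l7 pJ' pR' a b) 3).combineC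
      (if a = b then .num 1 else .num 0) 3) (fun a b => if a = b.swap then .num 1 else .num 0) = true := by
  decide +kernel

end Cfsg.H3.PM
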