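import Cfsg.Agent.H3.NatMod
import Cfsg.Agent.H7.Bridge

/-! Quadratic modules for `SL₂(F)` are sums of natural modules. -/

set_option autoImplicit false
set_option linter.unusedSectionVars false

namespace Cfsg.H3.QM

open Subgroup Matrix H7.Md
open scoped MatrixGroups

variable {F : Type*} [Field F] {W : Type*} [AddCommGroup W] [DistribMulAction SL(2, F) W]

/-- Monomial elements. -/
def wt (t : Fˣ) : SL(2, F) := mkSL 0 t (-(t⁻¹ : Fˣ)) 0 (by simp)

variable (F) in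
/-- The Weyl element. -/
def wg : SL(2, F) := mkSL 0 (-1) 1 0 (by simp)

theorem Lo_mul_wg (s : F) : Lo s * wg F = wg F * U (-s) :=
  Subtype.ext (by simp [wg, mkSL_coe, U_coe, Lo_coe])

theorem U_mul_wg (s : F) : U s * wg F = wg F * Lo (-s) :=
  Subtype.ext (by simp [wg, mkSL_coe, U_coe, Lo_coe])

theorem wt_eq (t : Fˣ) : wt t = U (t : F) * Lo (-(t⁻¹ : Fˣ) : F) * U (t : F) :=
  Subtype.ext (by simp [wt, mkSL_coe, U_coe, Lo_coe])

theorem wt_eq' (t : Fˣ) : wt t = Lo (-(t⁻¹ : Fˣ) : F) * U (t : F) * Lo (-(t⁻¹ : Fˣ) : F) :=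
  Subtype.ext (by simp [wt, mkSL_coe, U_coe, Lo_coe])

theorem wt_mul_dg (t : Fˣ) : wt (-t) * dg t = wg F :=
  Subtype.ext (by simp [wt, wg, dg, mkSL_coe])

theorem wg_mul_dg (t : Fˣ) : wg F * dg t = wt (-t⁻¹) :=
  Subtype.ext (by simp [wt, wg, dg, mkSL_coe])

theorem dg_mul (s t : Fˣ) : dg (s * t) = dg s * dg t :=
  Subtype.ext (by simp [dg, mkSL_coe, mul_comm])

theorem wg_mul_wg : wg F * wg F = dg (-1) := Subtype.ext (by simp [wg, dg, mkSL_coe])

variable (F) in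
/-- Vectors fixed by the upper unitriangular group. -/
def V0 (W : Type*) [AddCommGroup W] [DistribMulAction SL(2, F) W] : AddSubgroup W where
  carrier := {x | ∀ s : F, U s • x = x}
  add_mem' := fun h h' s => by rw [smul_add, h, h']
  zero_mem' := fun _ => smul_zero _
  neg_mem' := fun h s => by rw [smul_neg, h]

variable (F) in
/-- Vectors fixed by the lower unitriangular group. -/
def V1 (W : Type*) [AddCommGroup W] [DistribMulAction SL(2, F) W] : AddSubgroup W where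
  carrier := {x | ∀ s : F, Lo s • x = x}
  add_mem' := fun h h' s => by rw [smul_add, h, h']
  zero_mem' := fun _ => smul_zero _
  neg_mem' := fun h s => by rw [smul_neg, h]

variable {x y : W}

theorem wg_mem_V1 : wg F • x ∈ V1 F W ↔ x ∈ V0 F W :=
  ⟨fun h s => by
    have := h (-s)
    rwa [← mul_smul, Lo_mul_wg, mul_smul, neg_neg, smul_left_cancel_iff] at this,
    fun h s => by rw [← mul_smul, Lo_mul_wg, mul_smul, h]⟩

theorem wg_mem_V0 : wg F • x ∈ V0 F W ↔ x ∈ V1 F W :=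
  ⟨fun h s => by
    have := h (-s)
    rwa [← mul_smul, U_mul_wg, mul_smul, neg_neg, smul_left_cancel_iff] at this,
    fun h s => by rw [← mul_smul, U_mul_wg, mul_smul, h]⟩

theorem U_smul_upper {A : SL(2, F)} (hA : A 1 0 = 0) (s : F) (x : W) :
    ∃ t : F, U s • A • x = A • U t • x :=
  ⟨_, by rw [← conj_U_of_upper A⁻¹ (by simp [Matrix.SpecialLinearGroup.SL2_inv_expl, hA]) s]
         simp [mul_smul]⟩

theorem upper_mem_V0 {A : SL(2, F)} (hA : A 1 0 = 0) (hx : x ∈ V0 F W) : A • x ∈ V0 F W :=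
  fun s => by obtain ⟨t, ht⟩ := U_smul_upper hA s x; rw [ht, hx]

theorem dg_mem_V0 (t : Fˣ) (hx : x ∈ V0 F W) : dg t • x ∈ V0 F W :=
  upper_mem_V0 (by simp [dg, mkSL_coe]) hx

theorem smul_eq_of_fix (hx : x ∈ V0 F W) {s : F} (hs : s ≠ 0) (h : Lo s • x = x) (g : SL(2, F)) :
    g • x = x :=
  (H8.eq_top_of_not_le_upper (K := MulAction.stabilizer _ x) (by rintro _ ⟨b, rfl⟩; exact hx _)
    fun hc => hs (H8.Lo_mem_upper.1 (hc h))).ge (mem_top g)

/-- The scalar multiplication on fixed vectors. -/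
def ph (c : F) (x : W) : W := U c • wg F • x - wg F • x

theorem ph_zero (x : W) : ph (0 : F) x = 0 := by simp [ph, U_zero]

theorem ph_add_right (c : F) (x y : W) : ph c (x + y) = ph c x + ph c y := by
  simp only [ph, smul_add]; abel

variable (F W) in
/-- The hypotheses: no fixed vectors, and quadratic action on `V1`. -/
structure Quad : Prop where
  fix : ∀ v : W, (∀ g : SL(2, F), g • v = v) → v = 0
  quad : ∀ y ∈ V1 F W, ∀ s : F, U s • y - y ∈ V0 F W

namespace Quad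

variable (h : Quad F W)
include h

theorem eq_zero (h0 : x ∈ V0 F W) (h1 : x ∈ V1 F W) : x = 0 :=
  h.fix x (smul_eq_of_fix h0 one_ne_zero (h1 1))

theorem ph_mem (c : F) (hx : x ∈ V0 F W) : ph c x ∈ V0 F W := h.quad _ (wg_mem_V1.2 hx) c

theorem ph_add (c d : F) (hx : x ∈ V0 F W) : ph (c + d) x = ph c x + ph d x := by
  rw [← h.ph_mem d hx c]; simp [ph, U_add, mul_smul, smul_sub]

theorem ph_neg (c : F) (hx : x ∈ V0 F W) : ph (-c) x = -ph c x :=
  eq_neg_of_add_eq_zero_left (by rw [← h.ph_add _ _ hx, neg_add_cancel, ph_zero])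

theorem key (t : Fˣ) (hx : x ∈ V0 F W) :
    wt t • x = Lo (-(t⁻¹ : Fˣ) : F) • x - x ∧ U (t : F) • wt t • x = wt t • x - x := by
  set z := Lo (-(t⁻¹ : Fˣ) : F) • x - x with hz
  have h1 : z ∈ V1 F W := wg_mem_V0.1 (by
    rw [hz, smul_sub, ← mul_smul, ← U_mul_wg, mul_smul]; exact h.ph_mem _ hx)
  have h2 : wt t • x = x + U (t : F) • z := by
    rw [wt_eq, mul_smul, mul_smul, hx, hz, smul_sub, hx]; abel
  have h3 : wt t • x = Lo (-(t⁻¹ : Fˣ) : F) • (x + U (t : F) • z) := by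
    rw [wt_eq', mul_smul, mul_smul, hz, smul_sub, hx, add_sub_cancel]
  have h4 := h.fix _ (smul_eq_of_fix (add_mem hx (h.quad z h1 t)) (s := -(t⁻¹ : Fˣ)) (by simp) (by
    rw [← add_sub_assoc, smul_sub, h1, ← h3, h2]))
  have h5 : U (t : F) • z = z - x := by linear_combination (norm := abel) h4
  rw [h2, h5, add_sub_cancel, h5]
  exact ⟨rfl, rfl⟩

theorem ph_eq (t : Fˣ) (hx : x ∈ V0 F W) : ph (t : F) x = dg t • x := by
  have := (h.key (-t) (dg_mem_V0 t hx)).2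
  rw [← mul_smul (wt _), wt_mul_dg, Units.val_neg] at this
  rw [← neg_inj, ← h.ph_neg _ hx, ph, this]; abel

theorem ph_one (hx : x ∈ V0 F W) : ph (1 : F) x = x := by
  rw [← Units.val_one, h.ph_eq _ hx, show dg (1 : Fˣ) = 1 from
    Subtype.ext (by simp [dg, mkSL_coe, one_fin_two]), one_smul]

theorem ph_mul (c d : F) (hx : x ∈ V0 F W) : ph (c * d) x = ph c (ph d x) := by
  by_cases hc : c = 0
  · simp [hc, ph_zero]
  by_cases hd : d = 0
  · simp [hd, U_zero, ph]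
  lift c to Fˣ using Ne.isUnit hc
  lift d to Fˣ using Ne.isUnit hd
  rw [← Units.val_mul, h.ph_eq _ hx, h.ph_eq _ hx, h.ph_eq _ (dg_mem_V0 _ hx), dg_mul, mul_smul]

theorem Lo_smul (t : F) (hx : x ∈ V0 F W) : Lo t • x = x + wg F • ph t x := by
  by_cases ht : t = 0
  · simp [ht, ph_zero, Lo_zero]
  lift t to Fˣ using Ne.isUnit ht
  rw [h.ph_eq _ hx, ← mul_smul, wg_mul_dg, (h.key _ hx).1]; simp

theorem wg_wg (hx : x ∈ V0 F W) : wg F • wg F • x = -x := by
  rw [← mul_smul, wg_mul_wg, ← h.ph_eq _ hx, Units.val_neg, h.ph_neg _ hx, Units.val_one,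
    h.ph_one hx]

theorem ph_eq_zero {c : F} (hx : x ∈ V0 F W) (h0 : x ≠ 0) (hc : ph c x = 0) : c = 0 := by
  by_contra h1
  lift c to Fˣ using (Ne.isUnit h1)
  rw [h.ph_eq _ hx, smul_eq_zero_iff_eq] at hc
  exact h0 hc

theorem exists_hom (hx : x ∈ V0 F W) (h0 : x ≠ 0) : ∃ Ψ : (Fin 2 → F) →+ W,
    Function.Injective Ψ ∧ Ψ ![1, 0] = x ∧ ∀ (g : SL(2, F)) v, Ψ (g.1 *ᵥ v) = g • Ψ v := by
  refine ⟨AddMonoidHom.mk' (fun v => ph (v 0) x + wg F • ph (v 1) x) fun u v => ?_, ?_,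
    by simp [ph_zero, h.ph_one hx], fun g => ?_⟩
  · simp only [Pi.add_apply, h.ph_add _ _ hx, smul_add]; abel
  · refine (injective_iff_map_eq_zero _).2 fun v hv => ?_
    have h1 := h.eq_zero (h.ph_mem (v 0) hx) (by
      rw [eq_neg_of_add_eq_zero_left hv]; exact neg_mem (wg_mem_V1.2 (h.ph_mem _ hx)))
    rw [AddMonoidHom.mk'_apply, h1, zero_add, smul_eq_zero_iff_eq] at hv
    rw [← vec_eta v, h.ph_eq_zero hx h0 h1, h.ph_eq_zero hx h0 hv]; simp
  · induction g using SL2_induction with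
    | hU b =>
      intro v
      simp only [U_mulVec, AddMonoidHom.mk'_apply, cons_val_zero, cons_val_one, h.ph_add _ _ hx,
        h.ph_mul _ _ hx, smul_add, h.ph_mem _ hx b, ph.eq_1 b]
      abel
    | hL b =>
      intro v
      simp only [Lo_mulVec, AddMonoidHom.mk'_apply, cons_val_zero, cons_val_one, h.ph_add _ _ hx,
        h.ph_mul _ _ hx, smul_add, wg_mem_V1.2 (h.ph_mem _ hx) b, h.Lo_smul b (h.ph_mem _ hx)]
      abel
    | hmul A B hA hB => intro v; rw [mul_smul, ← hB, ← hA, mulVec_mulVec]; rfl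

end Quad

universe u

theorem exists_rep_of_hom {G : Type u} [Group G] {V L N : Subgroup G} [Finite V] [Finite L]
    {Γ : Type*} [Group Γ] (π : L →* Γ) (h1 : Function.Surjective π)
    (h2 : ∀ l : L, π l = 1 ↔ (l : G) ∈ N) (hV : V ≤ centralizer (V : Set G))
    (hL : L ≤ normalizer (V : Set G)) (hN : L ≤ normalizer (N : Set G))
    (hC : N ≤ centralizer (V : Set G)) : ∃ (W : Type u) (_ : AddCommGroup W)
      (_ : DistribMulAction Γ W) (_ : Finite W) (r : Rep V L N Γ W), r.π = π := by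
  obtain ⟨Γ₀, W, _, _, _, _, _, ⟨r⟩⟩ := exists_rep hV hL hN hC
  let f := π.liftOfSurjective h1 ⟨r.π, fun l hl => (r.ker l).2 ((h2 l).1 hl)⟩
  let _ := DistribMulAction.compHom W f
  refine ⟨W, inferInstance, inferInstance, inferInstance, ⟨π, r.ι, h1, h2, hL, fun l w => ?_⟩, rfl⟩
  rw [← r.act]
  exact congrArg (fun t : Γ₀ => (r.ι (.ofAdd (t • w)) : G))
    (π.liftOfRightInverse_comp_apply _ _ _ l)

theorem actsAs_of_hom {G : Type*} [Group G] {V L N : Subgroup G} (r : Rep V L N SL(2, F) W)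
    {Ψ : (Fin 2 → F) →+ W} (h1 : Function.Injective Ψ)
    (h2 : ∀ (g : SL(2, F)) v, Ψ (g.1 *ᵥ v) = g • Ψ v) :
    ActsAsSL2OnSection F ⊤ L (r.uv Ψ.range) ⊥ := by
  let f : Multiplicative (Fin 2 → F) →* r.uv Ψ.range := MonoidHom.mk'
    (fun v => ⟨r.e (Ψ v.toAdd), _, ⟨_, rfl⟩, rfl⟩) fun a b => Subtype.ext (by simp [r.e_add])
  have hf : Function.Bijective f := ⟨fun a b h => Multiplicative.toAdd.injective (h1 (r.e_inj
    (a₁ := Ψ a.toAdd) (a₂ := Ψ b.toAdd) (congrArg (fun z : r.uv Ψ.range => (z : G)) h))), by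
      rintro ⟨_, _, ⟨v, rfl⟩, rfl⟩
      exact ⟨Multiplicative.ofAdd v, rfl⟩⟩
  let θ := MulEquiv.ofBijective f hf
  refine ⟨fun l hl => (r.π_mem_st (l := ⟨l, hl⟩)).1 (le_st_iff.2 ?_ (mem_top _)), bot_le, r.π,
    θ.symm, MonoidHom.range_eq_top.2 r.surj, θ.symm.surjective, fun u => by simp, fun l u => ?_⟩
  · rintro g - _ ⟨v, rfl⟩
    exact ⟨_, h2 g v⟩
  · obtain ⟨v, rfl⟩ := θ.surjective u
    exact ⟨θ (.ofAdd ((r.π l).1 *ᵥ v.toAdd)), (congrArg r.e (h2 _ _)).trans (r.e_smul l _), by simp⟩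

theorem quad_of_card [Finite W] [Fintype F] {p : ℕ} [Fact p.Prime] [CharP F p]
    (hp : ∀ v : W, p • v = 0) (fix : ∀ v : W, (∀ g : SL(2, F), g • v = v) → v = 0)
    (hirr : ∀ X : AddSubgroup W, (∀ g : SL(2, F), ∀ v ∈ X, g • v ∈ X) → X = ⊥ ∨ X = ⊤)
    (hc : Nat.card W ≤ Nat.card (V0 F W) ^ 2) : Quad F W := by
  refine ⟨fix, fun y _ => ?_⟩
  by_cases h0 : ⊤ ≤ V0 F W
  · exact fun _ => h0 trivial
  obtain ⟨v, -, h1, h2⟩ := exists_fixed hp (H8.isSyl_uHom (F := F)).isPGroup (U := ⊤) (W := V0 F W)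
    (by simp) (le_st_iff.2 (by rintro _ ⟨b, rfl⟩ u hu; exact (hu _).symm ▸ hu)) h0
  have h3 : Nat.card (V1 F W) = Nat.card (V0 F W) := by
    rw [← card_sm (wg F) (V0 F W)]
    congr 2
    ext x
    rw [mem_sm, ← wg_mem_V1, smul_inv_smul]
  have h4 : Function.Bijective fun t : V0 F W × V1 F W => (t.1 : W) + t.2 := by
    refine Function.Injective.bijective_of_nat_card_le (fun a b hab => ?_)
      (by rwa [Nat.card_prod, h3, ← pow_two])
    have a1 : (a.1 : W) - b.1 = b.2 - a.2 := by linear_combination (norm := abel) hab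
    have a2 := fix _ (smul_eq_of_fix (sub_mem a.1.2 b.1.2) one_ne_zero
      ((a1 ▸ sub_mem b.2.2 a.2.2 : _ ∈ V1 F W) 1))
    exact Prod.ext (Subtype.ext (sub_eq_zero.1 a2)) (Subtype.ext (sub_eq_zero.1 (a1 ▸ a2)).symm)
  obtain ⟨⟨⟨a, ha⟩, ⟨b, hb⟩⟩, rfl⟩ := h4.2 v
  let Z : AddSubgroup W :=
    { carrier := {z | ∀ (g : SL(2, F)) (s : F), U s • g • z - g • z ∈ V0 F W}
      add_mem' := fun h h' g s => by
        simpa only [smul_add, add_sub_add_comm] using add_mem (h g s) (h' g s)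
      zero_mem' := fun g s => by simp
      neg_mem' := fun h g s => by simpa only [smul_neg, neg_sub_neg, neg_sub] using neg_mem (h g s) }
  have h5 : b ∈ Z := fun g s => by
    by_cases hg : g 1 1 = 0
    · have := conj_U_of_zero g⁻¹ (by simp [Matrix.SpecialLinearGroup.SL2_inv_expl, hg]) s
      rw [show U s • g • b = g • (g⁻¹ * U s * g⁻¹⁻¹) • b by simp [mul_smul], this, hb, sub_self]
      exact zero_mem _
    · have a1 : (g * Lo (-(g 1 0 / g 1 1))) 1 0 = 0 := by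
        simp [Lo_coe, mul_apply, Fin.sum_univ_two]; field_simp; ring
      obtain ⟨t, ht⟩ := U_smul_upper a1 s b
      rw [← hb (-(g 1 0 / g 1 1)), ← mul_smul g, ht, ← smul_sub]
      refine upper_mem_V0 a1 ?_
      simpa [smul_add, ha t] using h2 _ (H8.mem_range_uHom.2 ⟨t, rfl⟩)
  have h6 := (hirr Z fun g v hv k s => by rw [← mul_smul k]; exact hv _ s).resolve_left fun hc =>
    h1 (by simpa [AddSubgroup.mem_bot.1 (hc ▸ h5)] using ha)
  simpa using (h6.ge trivial : y ∈ Z) 1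

end Cfsg.H3.QM
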